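import Cfsg.Agent.Lib.helper3.O73TC.Z.Main
import Cfsg.Agent.Lib.helper3.O73TC.Z.Struct
import Cfsg.Agent.Lib.helper3.G23TC.PresA

/-!
The centralised presentation on the seven root elements `A`, `C`, `B`, `D`, `x`, `y`, `e` (letters `0, 2, …, 12`,
the odd letters being their inverses) of the orthogonal group `Ω₇(3)` has at most `6 * 4585351680` elements: the
subgroup generated by the first six letters has index at most 2160 by coset enumeration, and it is a homomorphic
image of the centralised presentation of the group of type `G₂` over the field with three elements, which has at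
most `3 * 4245696` elements (helper3).
-/

set_option autoImplicit false
set_option maxRecDepth 100000

namespace Cfsg.Agent.Lib.Helper3.O73TC.Z

open Cfsg.Agent.Lib.Helper12.TC Cfsg.Agent.Lib.Helper12.TCG Cfsg.Agent.Lib.Helper3.TCUpper
open Cfsg.Agent.Lib.Helper3.StemPres Cfsg.Agent.Lib.Helper3

/-- the presented group -/
abbrev Grp : Type := WPres.Grp 14 baseL

/-- the letters as elements of the presented group -/
def v : ℕ → Grp := WPres.v 14 baseL

theorem hbase : ∀ b ∈ baseL, wprod v b = 1 := WPres.hbase 14 baseL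

theorem hvge : ∀ s, ¬ s < 14 → v s = 1 := WPres.hvge 14 baseL

theorem hvinv : ∀ s < 14, v (invS cIV s) = (v s)⁻¹ := WPres.hvinv 14 baseL cIV hpairs

theorem hgen : ∀ γ : Grp, γ ∈ Subgroup.closure {y | ∃ x < 14, y = v x} := WPres.hgen 14 baseL

theorem hbase' : ∀ b ∈ baseOf cIV 14 sData rels posL, wprod v b = 1 := by
  rw [← baseL_eq]; exact hbase

/-- the subgroup generated by the first six positive letters -/
def H : Subgroup Grp := Subgroup.closure {v 0, v 2, v 4, v 6, v 8, v 10}

theorem hswH : ∀ w ∈ sw, wprod v w ∈ H := by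
  intro w hw
  have : w = [0] ∨ w = [2] ∨ w = [4] ∨ w = [6] ∨ w = [8] ∨ w = [10] := by simpa [sw] using hw
  rcases this with rfl | rfl | rfl | rfl | rfl | rfl <;>
  · rw [wprod_cons, wprod_nil, mul_one]; exact Subgroup.subset_closure (by simp)

theorem index_bound : Finite (Grp ⧸ H) ∧ Nat.card (Grp ⧸ H) ≤ cN :=
  index_le2 v 14 cIV (by decide) hiv hvinv hvge hgen baseL hbase hlet sw hletsw H hswH F finrecs chunks
    cD cK cN hdefs hchunks hcover hfin hlen

theorem base23_sub : ∀ b ∈ G23TC.A.baseL, b ∈ baseL := by decide +kernel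

/-- the homomorphism from the centralised presentation of the group of type `G₂` -/
theorem exists_hom23 : ∃ ρ : G23TC.A.Grp →* Grp, ∀ x < 12, ρ (G23TC.A.v x) = v x :=
  WPres.hlift 12 G23TC.A.baseL G23TC.A.hlet v (fun b hb => hbase b (base23_sub b hb))

theorem card_H : Finite H ∧ Nat.card H ≤ 12737088 := by
  obtain ⟨ρ, hρ⟩ := exists_hom23
  obtain ⟨hfB, hcB⟩ := G23TC.A.card_le
  have hle : H ≤ ρ.range := by
    unfold H
    rw [Subgroup.closure_le]
    intro y hy
    simp only [Set.mem_insert_iff, Set.mem_singleton_iff] at hy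
    rcases hy with rfl | rfl | rfl | rfl | rfl | rfl
    · exact ⟨G23TC.A.v 0, hρ 0 (by decide)⟩
    · exact ⟨G23TC.A.v 2, hρ 2 (by decide)⟩
    · exact ⟨G23TC.A.v 4, hρ 4 (by decide)⟩
    · exact ⟨G23TC.A.v 6, hρ 6 (by decide)⟩
    · exact ⟨G23TC.A.v 8, hρ 8 (by decide)⟩
    · exact ⟨G23TC.A.v 10, hρ 10 (by decide)⟩
  have hfr : Finite ρ.range := Finite.of_surjective ρ.rangeRestrict ρ.rangeRestrict_surjective
  have hfH : Finite H := Finite.of_injective (Subgroup.inclusion hle) (Subgroup.inclusion_injective hle)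
  refine ⟨hfH, ?_⟩
  calc Nat.card H ≤ Nat.card ρ.range := Nat.card_le_card_of_injective _ (Subgroup.inclusion_injective hle)
    _ ≤ Nat.card G23TC.A.Grp := Nat.card_le_card_of_surjective _ ρ.rangeRestrict_surjective
    _ ≤ 12737088 := hcB

/-- the presented group has at most `6 * 4585351680` elements -/
theorem card_le : Finite Grp ∧ Nat.card Grp ≤ 27512110080 := by
  obtain ⟨hf1, hc1⟩ := index_bound
  obtain ⟨hf2, hc2⟩ := card_H
  have hG : Finite Grp := Finite.of_equiv _ (Subgroup.groupEquivQuotientProdSubgroup (s := H)).symm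
  refine ⟨hG, ?_⟩
  rw [Subgroup.card_eq_card_quotient_mul_card_subgroup H]
  calc Nat.card (Grp ⧸ H) * Nat.card H ≤ cN * 12737088 := Nat.mul_le_mul hc1 hc2
    _ = 27512110080 := by decide

end Cfsg.Agent.Lib.Helper3.O73TC.Z
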